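import Groth.Agent.S1833
import Mathlib.RingTheory.Ideal.AssociatedPrime.Localization
import Mathlib.RingTheory.KrullDimension.Regular
import Mathlib.RingTheory.Localization.BaseChange

/-!
# Lengths and specialization along a regular parameter

Commutative algebra behind semicontinuity of the sum of lengths at maximal points of the fibres
over a discrete valuation ring.
-/

universe u

open Pointwise

namespace Groth.L11.LenSpec

section Quot

variable {R : Type u} [CommRing R] [IsNoetherianRing R] {N : Type u} [AddCommGroup N] [Module R N]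
  [Module.Finite R N]

omit [IsNoetherianRing R] [Module.Finite R N] in
theorem quot_support_le (π : R) {p : PrimeSpectrum R}
    (hp : p ∈ Module.support R (N ⧸ π • (⊤ : Submodule R N))) :
    p ∈ Module.support R N ∧ π ∈ p.asIdeal := by
  rw [Module.mem_support_iff'] at hp
  obtain ⟨n, hn⟩ := hp
  obtain ⟨n, rfl⟩ := Submodule.Quotient.mk_surjective _ n
  refine ⟨Module.mem_support_iff'.2 ⟨n, fun r hr h => hn r hr ?_⟩, ?_⟩
  · rw [← Submodule.Quotient.mk_smul, h, Submodule.Quotient.mk_zero]
  · by_contra hπ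
    refine hn π hπ ?_
    rw [← Submodule.Quotient.mk_smul, Submodule.Quotient.mk_eq_zero]
    exact Submodule.smul_mem_pointwise_smul n π _ trivial

theorem mem_quot_support (π : R) {p : PrimeSpectrum R}
    (hp : p ∈ Module.support R N) (hπ : π ∈ p.asIdeal) :
    p ∈ Module.support R (N ⧸ π • (⊤ : Submodule R N)) := by
  rw [← Submodule.ideal_span_singleton_smul, Module.support_quotient]
  exact ⟨hp, by simpa [PrimeSpectrum.mem_zeroLocus, Ideal.span_le] using hπ⟩

/-- A minimal prime of `P + (π)`, for `P` associated and `π` regular, is associated to `N / π N`. -/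
theorem mem_associatedPrimes_quot (π : R) (hreg : ∀ n : N, π • n = 0 → n = 0) {P q : Ideal R}
    (hP : P ∈ associatedPrimes R N) (hq : q ∈ (P ⊔ Ideal.span {π}).minimalPrimes) :
    q ∈ associatedPrimes R (N ⧸ π • (⊤ : Submodule R N)) := by
  obtain ⟨hPp, x, hx⟩ := isAssociatedPrime_iff.1 hP
  haveI := hq.isPrime
  let N₀ : Submodule R N := Submodule.torsionBySet R N (P : Set R)
  have hmem : ∀ n, n ∈ N₀ ↔ ∀ r ∈ P, r • n = 0 := fun n => by
    simp [N₀, Submodule.mem_torsionBySet_iff]
  have hx0 : x ∈ N₀ := (hmem x).2 fun r hr => by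
    rw [hx, Submodule.mem_colon_singleton, Submodule.mem_bot] at hr; exact hr
  have hann : Module.annihilator R (N₀ ⧸ π • (⊤ : Submodule R N₀)) ≤ q := by
    let q' : PrimeSpectrum R := ⟨q, hq.isPrime⟩
    have h : q' ∈ Module.support R (N₀ ⧸ π • (⊤ : Submodule R N₀)) := by
      refine mem_quot_support π (Module.mem_support_iff'.2 ⟨⟨x, hx0⟩, fun r hr h => hr ?_⟩)
        (hq.1.2 (Ideal.mem_sup_right (Ideal.mem_span_singleton_self π)))
      refine hq.1.2 (Ideal.mem_sup_left ?_)
      rw [hx, Submodule.mem_colon_singleton, Submodule.mem_bot]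
      exact congrArg Subtype.val h
    rwa [Module.support_eq_zeroLocus] at h
  have hle : P ⊔ Ideal.span {π} ≤ Module.annihilator R (N₀ ⧸ π • (⊤ : Submodule R N₀)) := by
    refine sup_le (fun r hr => Module.mem_annihilator.2 fun n => ?_) ?_
    · obtain ⟨n, rfl⟩ := Submodule.Quotient.mk_surjective _ n
      rw [← Submodule.Quotient.mk_smul, show r • n = 0 from Subtype.ext ((hmem n.1).1 n.2 r hr),
        Submodule.Quotient.mk_zero]
    · rw [Ideal.span_le, Set.singleton_subset_iff]
      refine Module.mem_annihilator.2 fun n => ?_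
      obtain ⟨n, rfl⟩ := Submodule.Quotient.mk_surjective _ n
      rw [← Submodule.Quotient.mk_smul, Submodule.Quotient.mk_eq_zero]
      exact Submodule.smul_mem_pointwise_smul n π _ trivial
  have h1 : q ∈ associatedPrimes R (N₀ ⧸ π • (⊤ : Submodule R N₀)) :=
    Module.associatedPrimes.minimalPrimes_annihilator_subset_associatedPrimes R _
      ⟨⟨hq.isPrime, hann⟩, fun r hr hrq => hq.2 ⟨hr.1, hle.trans hr.2⟩ hrq⟩
  let i : (N₀ ⧸ π • (⊤ : Submodule R N₀)) →ₗ[R] N ⧸ π • (⊤ : Submodule R N) :=
    Submodule.mapQ _ _ N₀.subtype (fun n hn => by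
      obtain ⟨m, -, rfl⟩ := (Submodule.mem_smul_pointwise_iff_exists _ _ _).1 hn
      exact Submodule.smul_mem_pointwise_smul _ π _ trivial)
  refine associatedPrimes.subset_of_injective (f := i) ?_ h1
  rw [injective_iff_map_eq_zero]
  intro n hn
  obtain ⟨n, rfl⟩ := Submodule.Quotient.mk_surjective _ n
  rw [Submodule.mapQ_apply, Submodule.Quotient.mk_eq_zero] at hn
  obtain ⟨m, -, hm⟩ := (Submodule.mem_smul_pointwise_iff_exists _ _ _).1 hn
  have hm0 : m ∈ N₀ := (hmem m).2 fun r hr => hreg _ (by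
    rw [smul_comm, hm]; exact (hmem n.1).1 n.2 r hr)
  rw [Submodule.Quotient.mk_eq_zero]
  exact (Submodule.mem_smul_pointwise_iff_exists _ _ _).2 ⟨⟨m, hm0⟩, trivial, Subtype.ext hm⟩

/-- If `q` is associated to `N / π N`, the maximal ideal is associated to its localization at `q`. -/
theorem maximalIdeal_mem_associatedPrimes_quot {Rq M : Type u} [CommRing Rq] [Algebra R Rq]
    [IsLocalRing Rq] [AddCommGroup M] [Module R M] [Module Rq M] [IsScalarTower R Rq M]
    (π : R) (q : Ideal R) [q.IsPrime] [IsLocalization.AtPrime Rq q] (g : N →ₗ[R] M)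
    [IsLocalizedModule q.primeCompl g]
    (hq : q ∈ associatedPrimes R (N ⧸ π • (⊤ : Submodule R N))) :
    IsLocalRing.maximalIdeal Rq ∈
      associatedPrimes Rq (M ⧸ algebraMap R Rq π • (⊤ : Submodule Rq M)) := by
  haveI : IsNoetherianRing Rq := IsLocalization.isNoetherianRing q.primeCompl Rq inferInstance
  obtain ⟨-, x, hx⟩ := isAssociatedPrime_iff.1 hq
  obtain ⟨n, rfl⟩ := Submodule.Quotient.mk_surjective _ x
  have hcol : ∀ r : R, r ∈ q ↔ r • n ∈ π • (⊤ : Submodule R N) := fun r => by
    rw [hx, Submodule.mem_colon_singleton, Submodule.mem_bot, ← Submodule.Quotient.mk_smul,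
      Submodule.Quotient.mk_eq_zero]
  let e : M ⧸ algebraMap R Rq π • (⊤ : Submodule Rq M) := Submodule.Quotient.mk (g n)
  have hmax : IsLocalRing.maximalIdeal Rq ≤ (⊥ : Submodule Rq _).colon {e} := by
    rw [← IsLocalization.AtPrime.map_eq_maximalIdeal q Rq, Ideal.map_le_iff_le_comap]
    intro r hr
    rw [Ideal.mem_comap, Submodule.mem_colon_singleton, Submodule.mem_bot,
      ← Submodule.Quotient.mk_smul, Submodule.Quotient.mk_eq_zero, algebraMap_smul]
    obtain ⟨m, -, hm⟩ := (Submodule.mem_smul_pointwise_iff_exists _ _ _).1 ((hcol r).1 hr)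
    rw [← map_smul, ← hm, map_smul, ← algebraMap_smul Rq π]
    exact Submodule.smul_mem_pointwise_smul _ _ _ trivial
  have hne : (⊥ : Submodule Rq _).colon {e} ≠ ⊤ := by
    intro h
    have h1 := (Ideal.eq_top_iff_one _).1 h
    rw [Submodule.mem_colon_singleton, one_smul, Submodule.mem_bot,
      Submodule.Quotient.mk_eq_zero] at h1
    obtain ⟨w, -, hw⟩ := (Submodule.mem_smul_pointwise_iff_exists _ _ _).1 h1
    obtain ⟨⟨n', s⟩, hs⟩ := IsLocalizedModule.surj q.primeCompl g w
    have h2 : g ((s : R) • n) = g (π • n') := by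
      rw [map_smul, map_smul, ← hw, algebraMap_smul, ← hs, Submonoid.smul_def, smul_comm]
    obtain ⟨t, ht⟩ := IsLocalizedModule.exists_of_eq (S := q.primeCompl) h2
    have h3 : ((t : R) * s) • n ∈ π • (⊤ : Submodule R N) := by
      rw [mul_smul, show (t : R) • (s : R) • n = (t : R) • π • n' from ht, smul_comm]
      exact Submodule.smul_mem_pointwise_smul _ _ _ trivial
    exact (q.primeCompl.mul_mem t.2 s.2) ((hcol _).2 h3)
  exact isAssociatedPrime_iff.2 ⟨inferInstance, e,
    (IsLocalRing.maximalIdeal.isMaximal Rq).eq_of_le hne hmax⟩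

end Quot

/-- Lengths of two localizations of the same module at the same submonoid agree. -/
theorem length_eq_of_isLocalizedModule {R : Type u} [CommRing R] {N : Type u} [AddCommGroup N]
    [Module R N] (S : Submonoid R) (A B : Type u) [CommRing A] [CommRing B] [Algebra R A]
    [Algebra R B] [IsLocalization S A] [IsLocalization S B] {M₁ M₂ : Type u} [AddCommGroup M₁]
    [AddCommGroup M₂] [Module R M₁] [Module R M₂] [Module A M₁] [Module B M₂]
    [IsScalarTower R A M₁] [IsScalarTower R B M₂] (g₁ : N →ₗ[R] M₁) (g₂ : N →ₗ[R] M₂)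
    [IsLocalizedModule S g₁] [IsLocalizedModule S g₂] :
    Module.length A M₁ = Module.length B M₂ := by
  let ψ : M₁ ≃ₗ[R] M₂ := IsLocalizedModule.linearEquiv S g₁ g₂
  let e : A ≃ₐ[R] B := IsLocalization.algEquiv S A B
  letI : Algebra A B := (e : A →+* B).toAlgebra
  letI : Module A M₂ := Module.compHom M₂ (e : A →+* B)
  haveI : IsScalarTower A B M₂ := IsScalarTower.of_algebraMap_smul fun _ _ => rfl
  haveI : IsScalarTower R A M₂ := IsScalarTower.of_algebraMap_smul fun r m => by
    change e (algebraMap R A r) • m = _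
    rw [AlgEquiv.commutes, algebraMap_smul]
  rw [(ψ.extendScalarsOfIsLocalization S A).length_eq]
  exact Module.length_eq_of_surjective e.surjective

theorem sum_length_le {R : Type u} [CommRing R] [IsNoetherianRing R] [IsLocalRing R] {M : Type u}
    [AddCommGroup M] [Module R M] [Module.Finite R M] (π : R)
    (hπ : π ∈ IsLocalRing.maximalIdeal R) (hreg : ∀ m : M, π • m = 0 → m = 0)
    (hpt : ∀ p ∈ Module.support R (M ⧸ π • (⊤ : Submodule R M)),
      p.asIdeal = IsLocalRing.maximalIdeal R)
    (t : Finset (PrimeSpectrum R))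
    (ht : ∀ p ∈ t, p ∈ Module.support R M ∧ π ∉ p.asIdeal) :
    ∑ p ∈ t, Module.length (Localization.AtPrime p.asIdeal)
        (LocalizedModule p.asIdeal.primeCompl M) ≤
      Module.length R (M ⧸ π • (⊤ : Submodule R M)) := by
  classical
  have h0 : Module.supportDim R (M ⧸ π • (⊤ : Submodule R M)) ≤ 0 := by
    haveI : Subsingleton (Module.support R (M ⧸ π • (⊤ : Submodule R M))) :=
      ⟨fun a b => Subtype.ext (PrimeSpectrum.ext ((hpt _ a.2).trans (hpt _ b.2).symm))⟩
    rcases isEmpty_or_nonempty (Module.support R (M ⧸ π • (⊤ : Submodule R M))) with h | h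
    · exact (Order.krullDim_eq_bot (α := Module.support R (M ⧸ π • (⊤ : Submodule R M)))).le.trans
        bot_le
    · exact (Order.krullDim_eq_zero (α := Module.support R (M ⧸ π • (⊤ : Submodule R M)))).le
  have hr : IsSMulRegular M π := IsSMulRegular.of_right_eq_zero_of_smul hreg
  have h1 : Module.supportDim R M ≤ 1 := by
    rw [← Module.supportDim_quotSMulTop_succ_eq_supportDim_mem_jacobson hr
      (IsLocalRing.maximalIdeal_le_jacobson _ hπ)]
    simpa using add_le_add h0 (le_refl (1 : WithBot ℕ∞))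
  rw [Groth.Agent.S1833.result R M π h1 h0]
  refine le_trans ?_ le_add_self
  let S : Set (PrimeSpectrum R) :=
    {p | p ∈ Module.support R M ∧ p.asIdeal ≠ IsLocalRing.maximalIdeal R}
  have hSfin : S.Finite := by
    refine (Set.Finite.preimage (fun a _ b _ h => PrimeSpectrum.ext h)
      (Ideal.finite_minimalPrimes_of_isNoetherianRing R (Module.annihilator R M))).subset
      fun p hp => ?_
    have hann : Module.annihilator R M ≤ p.asIdeal := by
      have := hp.1; rwa [Module.support_eq_zeroLocus] at this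
    obtain ⟨q, hq, hqp⟩ := Ideal.exists_minimalPrimes_le hann
    change p.asIdeal ∈ (Module.annihilator R M).minimalPrimes
    by_cases e : q = p.asIdeal
    · exact e ▸ hq
    exfalso
    haveI := hq.isPrime
    have hqs : (⟨q, hq.isPrime⟩ : PrimeSpectrum R) ∈ Module.support R M := by
      rw [Module.support_eq_zeroLocus]; exact hq.1.2
    let m : PrimeSpectrum R := ⟨IsLocalRing.maximalIdeal R, inferInstance⟩
    have hms : m ∈ Module.support R M := Module.mem_support_mono
      (IsLocalRing.le_maximalIdeal p.2.ne_top : p.asIdeal ≤ m.asIdeal) hp.1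
    rcases (Order.krullDim_le_one_iff.1 h1) (⟨p, hp.1⟩ : Module.support R M) with h | h
    · exact e (congrArg (fun z : Module.support R M => z.1.asIdeal)
        (le_antisymm (show (⟨⟨q, hq.isPrime⟩, hqs⟩ : Module.support R M) ≤ ⟨p, hp.1⟩ from hqp)
          (h (show (⟨⟨q, hq.isPrime⟩, hqs⟩ : Module.support R M) ≤ ⟨p, hp.1⟩ from hqp))))
    · have hle : (⟨p, hp.1⟩ : Module.support R M) ≤ ⟨m, hms⟩ :=
        IsLocalRing.le_maximalIdeal p.2.ne_top
      exact hp.2 (congrArg (fun z : Module.support R M => z.1.asIdeal) (le_antisymm hle (h hle)))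
  have hmax : ∀ p ∈ t, p ∈ hSfin.toFinset := fun p hp => hSfin.mem_toFinset.2
    ⟨(ht p hp).1, fun h => (ht p hp).2 (h ▸ hπ)⟩
  change _ ≤ ∑ᶠ (p : PrimeSpectrum R) (_ : p ∈ S), _
  rw [finsum_mem_eq_finite_toFinset_sum _ hSfin]
  refine le_trans ?_ (Finset.sum_le_sum_of_subset hmax)
  refine Finset.sum_le_sum fun p hp => ?_
  have hne : Ring.ord (R ⧸ p.asIdeal) (Ideal.Quotient.mk p.asIdeal π) ≠ 0 := by
    intro h
    rw [Ring.ord, Module.length_eq_zero_iff, Ideal.Quotient.subsingleton_iff,
      Ideal.span_singleton_eq_top] at h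
    obtain ⟨v, hv⟩ := Ideal.Quotient.mk_surjective (↑h.unit⁻¹ : R ⧸ p.asIdeal)
    have h1 : v * π - 1 ∈ p.asIdeal := by
      rw [← Ideal.Quotient.eq, map_mul, hv, map_one, IsUnit.val_inv_mul]
    refine (IsLocalRing.maximalIdeal.isMaximal R).ne_top ((Ideal.eq_top_iff_one _).2 ?_)
    simpa using Ideal.sub_mem _ (Ideal.mul_mem_left _ v hπ)
      (IsLocalRing.le_maximalIdeal p.2.ne_top h1)
  exact le_mul_of_one_le_left zero_le (Order.one_le_iff_pos.2 (pos_iff_ne_zero.2 hne))

end Groth.L11.LenSpec
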