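import Groth.Agent.L11.LenSpec.Alg
import Groth.Agent.L19.Ass.Basic
import Groth.Agent.L00.PullStalk
import Groth.Agent.L18.FiberStalk
import Groth.Prelude.Def_FlatMod2
import Mathlib.RingTheory.DiscreteValuationRing.Basic

/-!
# Stalks on the fibres over a discrete valuation ring
-/

set_option autoImplicit false
set_option linter.style.haveILetI false
set_option backward.isDefEq.respectTransparency false
set_option backward.isDefEq.respectTransparency.types false

universe u

open CategoryTheory AlgebraicGeometry TopologicalSpace IsLocalRing Pointwise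
open scoped TensorProduct

namespace Groth.L11.LenSpec

section Fibre

variable {X S : Scheme.{u}} (f : X ⟶ S) (F : X.Modules)

/-- The ideal of the fibre in the local ring of the total space. -/
noncomputable def fibIdeal (x : X) : Ideal (X.presheaf.stalk x) :=
  (maximalIdeal (S.presheaf.stalk (f.base x))).map (f.stalkMap x).hom

theorem fibre_stalk (hFfin : ∀ x, Module.Finite (X.presheaf.stalk x) (F.presheaf.stalk x)) (s : S)
    (v : ↥(f.fiber s)) :
    let x := f.fiberι s v
    let Fv := ((Scheme.Modules.pullback (f.fiberι s)).obj F).presheaf.stalk v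
    (Nontrivial Fv ↔ Nontrivial (F.presheaf.stalk x)) ∧
      Module.length ((f.fiber s).presheaf.stalk v) Fv =
        Module.length (X.presheaf.stalk x)
          (F.presheaf.stalk x ⧸ fibIdeal f x • (⊤ : Submodule (X.presheaf.stalk x) (F.presheaf.stalk x))) ∧
      (maximalIdeal (X.presheaf.stalk x) ∈ associatedPrimes (X.presheaf.stalk x)
          (F.presheaf.stalk x ⧸ fibIdeal f x • (⊤ : Submodule (X.presheaf.stalk x) (F.presheaf.stalk x))) →
        v ∈ AssSch.Ass ((Scheme.Modules.pullback (f.fiberι s)).obj F)) := by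
  intro x Fv
  obtain ⟨hsurj, hker⟩ := Groth.L18.stalkMap_fiberι f s v
  let Ox := X.presheaf.stalk x
  let Ov := (f.fiber s).presheaf.stalk v
  let Fx := F.presheaf.stalk x
  letI : Algebra Ox Ov := ((f.fiberι s).stalkMap v).hom.toAlgebra
  letI : Module Ox Fv := Module.compHom Fv (algebraMap Ox Ov)
  haveI : IsScalarTower Ox Ov Fv := IsScalarTower.of_algebraMap_smul fun _ _ => rfl
  have hker' : RingHom.ker (Algebra.ofId Ox Ov) = fibIdeal f x := hker
  let e₁ : (Ox ⧸ fibIdeal f x) ≃ₐ[Ox] Ov :=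
    (Ideal.quotientEquivAlgOfEq Ox hker'.symm).trans
      (Ideal.quotientKerAlgEquivOfSurjective (f := Algebra.ofId Ox Ov) hsurj)
  let e₀ : Fv ≃ₗ[Ov] Ov ⊗[Ox] Fx :=
    ((Groth.L00.PullStalk.stalkIso (f.fiberι s) v).app F).toLinearEquiv
  let E : Fv ≃ₗ[Ox] Fx ⧸ fibIdeal f x • (⊤ : Submodule Ox Fx) :=
    (e₀.restrictScalars Ox).trans ((TensorProduct.congr e₁.toLinearEquiv.symm
      (LinearEquiv.refl Ox Fx)).trans (TensorProduct.quotTensorEquivQuotSMul Fx (fibIdeal f x)))
  refine ⟨?_, ?_, ?_⟩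
  · rw [E.toEquiv.nontrivial_congr]
    haveI := hFfin x
    constructor
    · intro h
      exact (Submodule.Quotient.mk_surjective (fibIdeal f x • (⊤ : Submodule Ox Fx))).nontrivial
    · intro h
      rw [Submodule.Quotient.nontrivial_iff]
      intro htop
      refine not_subsingleton Fx (Submodule.subsingleton_iff Ox |>.1 (subsingleton_of_bot_eq_top ?_))
      refine (Submodule.eq_bot_of_le_smul_of_le_jacobson_bot (fibIdeal f x) ⊤ Module.Finite.fg_top
        htop.ge ?_).symm
      rw [IsLocalRing.jacobson_eq_maximalIdeal ⊥ bot_ne_top]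
      exact Ideal.map_le_iff_le_comap.2 fun a ha => map_nonunit (f.stalkMap x).hom a ha
  · rw [← Module.length_eq_of_surjective (S := Ox) (R := Ov) (M := Fv) hsurj]
    exact E.length_eq
  · intro h
    have h' : maximalIdeal Ox ∈ associatedPrimes Ox Fv :=
      associatedPrimes.subset_of_injective (f := E.symm.toLinearMap) E.symm.injective h
    rw [Groth.L19.Ass.mem_iff]
    obtain ⟨-, e, he⟩ := h'
    refine ⟨(maximalIdeal.isMaximal _).isPrime, e, ?_⟩
    ext r
    obtain ⟨r', rfl⟩ := hsurj r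
    have := SetLike.ext_iff.1 he r'
    rw [Ideal.mem_radical_iff] at this ⊢
    simp only [Submodule.mem_colon_singleton, Submodule.mem_bot] at this ⊢
    refine Iff.trans (show _ ↔ r' ∈ maximalIdeal Ox from by
      change ¬ IsUnit _ ↔ ¬ IsUnit r'
      rw [isUnit_map_iff]) ?_
    rw [this]
    exact exists_congr fun n => by rw [← map_pow]; rfl

end Fibre

section DVR

variable {A : Type u} [CommRing A] [IsDomain A] [IsDiscreteValuationRing A] {X : Scheme.{u}}
  (f : X ⟶ Spec (CommRingCat.of A)) (ϖ : A)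

/-- The pullback of the uniformiser to an open. -/
noncomputable def unif (V : X.Opens) : Γ(X, V) :=
  (f.appLE ⊤ V le_top).hom ((Scheme.ΓSpecIso (CommRingCat.of A)).inv ϖ)

theorem eq_closedPoint_iff (hϖ : Irreducible ϖ) (s : ↥(Spec (CommRingCat.of A))) :
    s = closedPoint A ↔ ϖ ∈ s.asIdeal := by
  constructor
  · rintro rfl
    exact hϖ.not_isUnit
  · intro h
    apply PrimeSpectrum.ext
    have hne : s.asIdeal ≠ ⊥ := fun e => hϖ.ne_zero (by simpa [e] using h)
    exact IsLocalRing.eq_maximalIdeal (s.2.isMaximal hne)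

theorem eq_genericPoint_iff (hϖ : Irreducible ϖ) (s : ↥(Spec (CommRingCat.of A))) :
    s = genericPoint ↥(Spec (CommRingCat.of A)) ↔ ϖ ∉ s.asIdeal := by
  haveI : IsDomain (CommRingCat.of A : CommRingCat.{u}) := ‹IsDomain A›
  rw [genericPoint_eq_bot_of_affine]
  constructor
  · rintro rfl
    exact hϖ.ne_zero
  · intro h
    apply PrimeSpectrum.ext
    change s.asIdeal = ⊥
    by_contra hne
    exact h ((IsLocalRing.eq_maximalIdeal (s.2.isMaximal hne)).symm ▸
      hϖ.not_isUnit)

variable {V : X.Opens} (hV : IsAffineOpen V) {x : X} (hx : x ∈ V)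

theorem unif_mem_iff :
    unif f ϖ V ∈ (hV.primeIdealOf ⟨x, hx⟩).asIdeal ↔ ϖ ∈ (f x).asIdeal := by
  rw [← not_iff_not]
  have h1 : x ∈ X.basicOpen (unif f ϖ V) ↔ ϖ ∉ (f x).asIdeal := by
    rw [unif, Scheme.Hom.appLE, CommRingCat.hom_comp, RingHom.comp_apply]
    erw [Scheme.basicOpen_res, ← Scheme.preimage_basicOpen]
    rw [basicOpen_eq_of_affine]
    exact ⟨fun h => h.2, fun h => ⟨hx, h⟩⟩
  rw [← h1]
  have h2 := hV.fromSpec_preimage_basicOpen (unif f ϖ V)
  constructor
  · intro h
    have : hV.primeIdealOf ⟨x, hx⟩ ∈ hV.fromSpec ⁻¹ᵁ X.basicOpen (unif f ϖ V) := by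
      rw [h2]; exact h
    have : hV.fromSpec (hV.primeIdealOf ⟨x, hx⟩) ∈ X.basicOpen (unif f ϖ V) := this
    rwa [hV.fromSpec_primeIdealOf] at this
  · intro h
    have : hV.primeIdealOf ⟨x, hx⟩ ∈ hV.fromSpec ⁻¹ᵁ X.basicOpen (unif f ϖ V) := by
      show hV.fromSpec _ ∈ X.basicOpen _
      rw [hV.fromSpec_primeIdealOf]; exact h
    rw [h2] at this; exact this

/-- The image of the uniformiser in a local ring of the base. -/
noncomputable def unifStalk (s : ↥(Spec (CommRingCat.of A))) :
    (Spec (CommRingCat.of A)).presheaf.stalk s :=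
  (Spec (CommRingCat.of A)).presheaf.germ ⊤ s trivial ((Scheme.ΓSpecIso (CommRingCat.of A)).inv ϖ)

theorem stalkMap_unifStalk :
    (f.stalkMap x).hom (unifStalk ϖ (f x)) = X.presheaf.germ V x hx (unif f ϖ V) := by
  rw [unifStalk, Scheme.Hom.germ_stalkMap_apply, unif, Scheme.Hom.appLE, CommRingCat.hom_comp,
    RingHom.comp_apply, TopCat.Presheaf.germ_res_apply]

theorem maximalIdeal_stalk (hϖ : Irreducible ϖ) (s : ↥(Spec (CommRingCat.of A))) :
    (ϖ ∈ s.asIdeal → maximalIdeal ((Spec (CommRingCat.of A)).presheaf.stalk s) =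
        Ideal.span {unifStalk ϖ s}) ∧
      (ϖ ∉ s.asIdeal → maximalIdeal ((Spec (CommRingCat.of A)).presheaf.stalk s) = ⊥) := by
  let hS := isAffineOpen_top (Spec (CommRingCat.of A))
  letI := (Spec (CommRingCat.of A)).presheaf.algebra_section_stalk
    (U := ⊤) ⟨s, Set.mem_univ s⟩
  haveI := hS.isLocalization_stalk ⟨s, Set.mem_univ s⟩
  let P := (hS.primeIdealOf ⟨s, Set.mem_univ s⟩).asIdeal
  let e := (Scheme.ΓSpecIso (CommRingCat.of A)).commRingCatIsoToRingEquiv.symm
  have hP : e ϖ ∈ P ↔ ϖ ∈ s.asIdeal := by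
    rw [← not_iff_not]
    have h2 := hS.fromSpec_preimage_basicOpen (e ϖ)
    rw [show (Spec (CommRingCat.of A)).basicOpen (e ϖ) = PrimeSpectrum.basicOpen ϖ from
      basicOpen_eq_of_affine (R := CommRingCat.of A) ϖ] at h2
    constructor
    · intro h
      have : hS.primeIdealOf ⟨s, Set.mem_univ s⟩ ∈
          hS.fromSpec ⁻¹ᵁ (PrimeSpectrum.basicOpen ϖ : (Spec (CommRingCat.of A)).Opens) := by
        rw [h2]; exact h
      have : hS.fromSpec (hS.primeIdealOf ⟨s, Set.mem_univ s⟩) ∈
          (PrimeSpectrum.basicOpen ϖ : (Spec (CommRingCat.of A)).Opens) := this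
      rwa [hS.fromSpec_primeIdealOf] at this
    · intro h
      have : hS.primeIdealOf ⟨s, Set.mem_univ s⟩ ∈
          hS.fromSpec ⁻¹ᵁ (PrimeSpectrum.basicOpen ϖ : (Spec (CommRingCat.of A)).Opens) := by
        show hS.fromSpec _ ∈ (PrimeSpectrum.basicOpen ϖ : (Spec (CommRingCat.of A)).Opens)
        rw [hS.fromSpec_primeIdealOf]; exact h
      rw [h2] at this; exact this
  have hmax := IsLocalization.AtPrime.map_eq_maximalIdeal P
    ((Spec (CommRingCat.of A)).presheaf.stalk s)
  haveI : (P.comap (e : A →+* _)).IsPrime := inferInstance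
  have hcomap : P = (P.comap (e : A →+* _)).map (e : A →+* _) :=
    (Ideal.map_comap_of_surjective _ e.surjective P).symm
  rw [← hmax]
  refine ⟨fun h => ?_, fun h => ?_⟩
  · have hne : P.comap (e : A →+* _) ≠ ⊥ := fun hb => hϖ.ne_zero (by
      have : ϖ ∈ P.comap (e : A →+* _) := hP.2 h
      simpa [hb] using this)
    rw [hcomap, IsLocalRing.eq_maximalIdeal ((inferInstance : (P.comap (e : A →+* _)).IsPrime).isMaximal hne),
      hϖ.maximalIdeal_eq, Ideal.map_span, Ideal.map_span, Set.image_singleton, Set.image_singleton]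
    rfl
  · have hne : P.comap (e : A →+* _) = ⊥ := by
      by_contra hb
      refine h (hP.1 ?_)
      have := IsLocalRing.eq_maximalIdeal ((inferInstance : (P.comap (e : A →+* _)).IsPrime).isMaximal hb)
      change ϖ ∈ P.comap (e : A →+* _)
      rw [this]; exact hϖ.not_isUnit
    rw [hcomap, hne, Ideal.map_bot, Ideal.map_bot]

theorem fibIdeal_smul_top (hϖ : Irreducible ϖ) (F : X.Modules) :
    (ϖ ∈ (f x).asIdeal → fibIdeal f x • (⊤ : Submodule (X.presheaf.stalk x) (F.presheaf.stalk x)) =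
      X.presheaf.germ V x hx (unif f ϖ V) • ⊤) ∧
    (ϖ ∉ (f x).asIdeal →
      fibIdeal f x • (⊤ : Submodule (X.presheaf.stalk x) (F.presheaf.stalk x)) = ⊥) := by
  refine ⟨fun h => ?_, fun h => ?_⟩ <;> rw [fibIdeal]
  · erw [(maximalIdeal_stalk ϖ hϖ (f x)).1 h]
    rw [Ideal.map_span, Set.image_singleton, stalkMap_unifStalk f ϖ hx,
      Submodule.ideal_span_singleton_smul]
  · erw [(maximalIdeal_stalk ϖ hϖ (f x)).2 h]
    rw [Ideal.map_bot, Submodule.bot_smul]

theorem unif_nzd (hϖ : Irreducible ϖ) (F : X.Modules) (hflat : FlatMod.IsFlatOver f F)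
    (m : F.presheaf.stalk x) (hm : X.presheaf.germ V x hx (unif f ϖ V) • m = 0) : m = 0 := by
  letI := FlatMod.moduleStalkOver f F x
  haveI : Module.Flat ((Spec (CommRingCat.of A)).presheaf.stalk (f x)) (F.presheaf.stalk x) := hflat x
  have hne : unifStalk ϖ (f x) ≠ 0 := by
    haveI : IsDomain (CommRingCat.of A : CommRingCat.{u}) := ‹IsDomain A›
    intro h
    have := AlgebraicGeometry.germ_injective_of_isIntegral (Spec (CommRingCat.of A)) (f x)
      (U := ⊤) trivial (a₁ := (Scheme.ΓSpecIso (CommRingCat.of A)).inv ϖ) (a₂ := 0)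
      (by rw [map_zero]; exact h)
    exact hϖ.ne_zero ((Scheme.ΓSpecIso (CommRingCat.of A)).commRingCatIsoToRingEquiv.symm.injective
      (this.trans (map_zero _).symm))
  haveI : IsDomain (CommRingCat.of A : CommRingCat.{u}) := ‹IsDomain A›
  refine (Module.Flat.isSMulRegular_of_nonZeroDivisors (M := F.presheaf.stalk x)
    (mem_nonZeroDivisors_of_ne_zero hne)).right_eq_zero_of_smul ?_
  change (f.stalkMap x).hom (unifStalk ϖ (f x)) • m = 0
  rw [stalkMap_unifStalk f ϖ hx]; exact hm

end DVR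

end Groth.L11.LenSpec
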