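import Groth.Agent.L11.LenSpec.Fib

/-!
# Charts for lengths over a discrete valuation ring
-/

set_option autoImplicit false
set_option linter.style.haveILetI false
set_option backward.isDefEq.respectTransparency false
set_option backward.isDefEq.respectTransparency.types false

universe u

open CategoryTheory AlgebraicGeometry TopologicalSpace IsLocalRing Pointwise

namespace Groth.L11.LenSpec

/-- A localization of a localization, with the resulting length and support. -/
theorem localization_point {R : Type u} [CommRing R] {N : Type u} [AddCommGroup N] [Module R N]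
    (q : Ideal R) [q.IsPrime] (Rq M : Type u) [CommRing Rq] [Algebra R Rq] [AddCommGroup M]
    [Module R M] [Module Rq M] [IsScalarTower R Rq M] [IsLocalization.AtPrime Rq q]
    (g : N →ₗ[R] M) [IsLocalizedModule q.primeCompl g] (p : Ideal Rq) [p.IsPrime] :
    (Nontrivial (LocalizedModule p.primeCompl M) ↔
      (⟨p.comap (algebraMap R Rq), inferInstance⟩ : PrimeSpectrum R) ∈ Module.support R N) ∧
    ∀ (A M' : Type u) [CommRing A] [Algebra R A]
      [IsLocalization (p.comap (algebraMap R Rq)).primeCompl A] [AddCommGroup M'] [Module R M']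
      [Module A M'] [IsScalarTower R A M'] (g' : N →ₗ[R] M')
      [IsLocalizedModule (p.comap (algebraMap R Rq)).primeCompl g'],
      Module.length (Localization.AtPrime p) (LocalizedModule p.primeCompl M) =
        Module.length A M' := by
  let P := p.comap (algebraMap R Rq)
  let k : M →ₗ[Rq] LocalizedModule p.primeCompl M := LocalizedModule.mkLinearMap _ _
  haveI : IsScalarTower R Rq (LocalizedModule p.primeCompl M) := inferInstance
  haveI : IsScalarTower R (Localization.AtPrime p) (LocalizedModule p.primeCompl M) :=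
    IsScalarTower.of_algebraMap_smul fun r m => by
      rw [IsScalarTower.algebraMap_apply R Rq (Localization.AtPrime p), algebraMap_smul,
        algebraMap_smul]
  haveI : IsLocalization P.primeCompl (Localization.AtPrime p) :=
    IsLocalization.isLocalization_isLocalization_atPrime_isLocalization q.primeCompl _ p
  have hbc : IsBaseChange (Localization.AtPrime p) ((k.restrictScalars R) ∘ₗ g) :=
    (IsLocalizedModule.isBaseChange q.primeCompl Rq g).comp
      (IsLocalizedModule.isBaseChange p.primeCompl (Localization.AtPrime p) k)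
  haveI : IsLocalizedModule P.primeCompl ((k.restrictScalars R) ∘ₗ g) :=
    (isLocalizedModule_iff_isBaseChange P.primeCompl (Localization.AtPrime p) _).2 hbc
  refine ⟨?_, fun A M' _ _ _ _ _ _ _ g' _ =>
    length_eq_of_isLocalizedModule P.primeCompl (Localization.AtPrime p) A
      ((k.restrictScalars R) ∘ₗ g) g'⟩
  rw [Module.mem_support_iff]
  exact (IsLocalizedModule.iso P.primeCompl ((k.restrictScalars R) ∘ₗ g)).toEquiv.symm.nontrivial_congr

variable {X : Scheme.{u}}

theorem specializes_fromSpec {V : X.Opens} (hV : IsAffineOpen V) (p q : Spec Γ(X, V)) :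
    hV.fromSpec p ⤳ hV.fromSpec q ↔ p.asIdeal ≤ q.asIdeal := by
  rw [hV.fromSpec.isOpenEmbedding.isInducing.specializes_iff]
  exact (PrimeSpectrum.le_iff_specializes p q).symm

theorem specializes_iff {V : X.Opens} (hV : IsAffineOpen V) {a b : X} (ha : a ∈ V) (hb : b ∈ V) :
    a ⤳ b ↔ (hV.primeIdealOf ⟨a, ha⟩).asIdeal ≤ (hV.primeIdealOf ⟨b, hb⟩).asIdeal := by
  rw [← specializes_fromSpec hV, hV.fromSpec_primeIdealOf, hV.fromSpec_primeIdealOf]

theorem nontrivial_stalk_iff (F : X.Modules) [Coh.IsQCoh F] {V : X.Opens} (hV : IsAffineOpen V)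
    {x : X} (hx : x ∈ V) :
    Nontrivial (F.presheaf.stalk x) ↔ hV.primeIdealOf ⟨x, hx⟩ ∈ Module.support Γ(X, V) Γ(F, V) := by
  letI := Groth.L20.ModStalk.stalkModule F hx
  haveI := Groth.L20.ModStalk.isLocalizedModule_germ F hV hx
  rw [Module.mem_support_iff]
  exact (IsLocalizedModule.iso (hV.primeIdealOf ⟨x, hx⟩).asIdeal.primeCompl
    (Groth.L20.ModStalk.germₗ F hx)).toEquiv.symm.nontrivial_congr

theorem finite_stalk (F : X.Modules) (hF : Coh.IsCoh F) (x : X) :
    Module.Finite (X.presheaf.stalk x) (F.presheaf.stalk x) := by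
  obtain ⟨V, hV, hx, -⟩ := exists_isAffineOpen_mem_and_subset (x := x) (U := ⊤) trivial
  haveI : Coh.IsQCoh F := hF.1
  haveI := Groth.L20.ModStalk.finite_sections F hF hV
  letI := Groth.L20.ModStalk.stalkModule F hx
  letI := X.presheaf.algebra_section_stalk ⟨x, hx⟩
  haveI := hV.isLocalization_stalk ⟨x, hx⟩
  haveI := Groth.L20.ModStalk.isLocalizedModule_germ F hV hx
  haveI : IsScalarTower Γ(X, V) (X.presheaf.stalk x) (F.presheaf.stalk x) :=
    IsScalarTower.of_algebraMap_smul fun _ _ => rfl
  exact Module.Finite.of_isLocalizedModule (hV.primeIdealOf ⟨x, hx⟩).asIdeal.primeCompl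
    (Groth.L20.ModStalk.germₗ F hx)

section

variable {A : Type u} [CommRing A] [IsDomain A] [IsDiscreteValuationRing A]
  (f : X ⟶ Spec (CommRingCat.of A)) (ϖ : A) (hϖ : Irreducible ϖ) (F : X.Modules)

include hϖ in
theorem fibre_eq_closed_iff {V : X.Opens} (hV : IsAffineOpen V) {x : X} (hx : x ∈ V) :
    f x = closedPoint A ↔ unif f ϖ V ∈ (hV.primeIdealOf ⟨x, hx⟩).asIdeal :=
  (eq_closedPoint_iff ϖ hϖ (f x)).trans (unif_mem_iff f ϖ hV hx).symm

include hϖ in
theorem nzd_sections [Coh.IsQCoh F] (hflat : FlatMod.IsFlatOver f F) {V : X.Opens}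
    (hV : IsAffineOpen V) (n : Γ(F, V)) (hn : unif f ϖ V • n = 0) : n = 0 := by
  by_contra hne
  have htop : (⊥ : Submodule Γ(X, V) Γ(F, V)).colon {n} ≠ ⊤ := fun h => hne (by
    simpa [Submodule.mem_colon_singleton] using (Ideal.eq_top_iff_one _).1 h)
  obtain ⟨q, hq, hle⟩ := Ideal.exists_le_maximal _ htop
  let qq : Spec Γ(X, V) := ⟨q, hq.isPrime⟩
  have hx := Groth.L19.Ass.fromSpec_mem hV qq
  letI := Groth.L20.ModStalk.stalkModule F hx
  haveI := Groth.L20.ModStalk.isLocalizedModule_germ F hV hx
  have h0 : Groth.L20.ModStalk.germₗ F hx n = 0 := by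
    refine unif_nzd f ϖ hx hϖ F hflat _ ?_
    change unif f ϖ V • Groth.L20.ModStalk.germₗ F hx n = 0
    rw [← map_smul, hn, map_zero]
  obtain ⟨t, ht⟩ := (IsLocalizedModule.eq_zero_iff
    (hV.primeIdealOf ⟨_, hx⟩).asIdeal.primeCompl (Groth.L20.ModStalk.germₗ F hx)).mp h0
  refine t.2 ?_
  refine (congrArg PrimeSpectrum.asIdeal (Groth.L19.Ass.primeIdealOf_fromSpec hV qq hx)).ge ?_
  exact hle (Submodule.mem_colon_singleton.2 (by rw [Submodule.mem_bot]; exact ht))

end

end Groth.L11.LenSpec
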